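import Mathlib

/-! Transitivity of the Galois group on primes of `L ⊗ K` for a Galois extension `L/k`. -/

open TensorProduct
open scoped Pointwise

namespace Groth.Agent.GalTrans

universe u v w

variable {k : Type u} {K : Type v} {L : Type w} [Field k] [Field K] [Field L] [Algebra k K]
  [Algebra k L]

/-- `σ` acting on the second factor of `K ⊗ L`. -/
noncomputable def act (σ : L ≃ₐ[k] L) : K ⊗[k] L →ₐ[K] K ⊗[k] L :=
  Algebra.TensorProduct.map (AlgHom.id K K) (σ : L →ₐ[k] L)

lemma act_tmul (σ : L ≃ₐ[k] L) (a : K) (b : L) : act σ (a ⊗ₜ b) = a ⊗ₜ σ b := rfl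

lemma act_one (x : K ⊗[k] L) : act (1 : L ≃ₐ[k] L) x = x := by
  induction x with
  | tmul a b => rfl
  | add x y hx hy => rw [map_add, hx, hy]
  | zero => rw [map_zero]

lemma act_mul (σ τ : L ≃ₐ[k] L) (x : K ⊗[k] L) : act (σ * τ) x = act σ (act τ x) := by
  induction x with
  | tmul a b => rfl
  | add x y hx hy => simp only [map_add, hx, hy]
  | zero => simp only [map_zero]

/-- The action as a semiring action. -/
@[implicit_reducible]
noncomputable def action : MulSemiringAction (L ≃ₐ[k] L) (K ⊗[k] L) where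
  smul σ x := act σ x
  one_smul x := act_one x
  mul_smul σ τ x := act_mul σ τ x
  smul_zero σ := map_zero (act σ)
  smul_add σ := map_add (act σ)
  smul_one σ := map_one (act σ)
  smul_mul σ := map_mul (act σ)

attribute [local instance] action

lemma smul_def (σ : L ≃ₐ[k] L) (x : K ⊗[k] L) : σ • x = act σ x := rfl

theorem exists_comap_eq [IsGalois k L] (P Q : Ideal (L ⊗[k] K)) [P.IsPrime] [Q.IsPrime] :
    ∃ σ : L ≃ₐ[k] L, Q = P.comap (Algebra.TensorProduct.map (σ : L →ₐ[k] L) (AlgHom.id k K)) := by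
  have hsc : SMulCommClass (L ≃ₐ[k] L) K (K ⊗[k] L) :=
    ⟨fun σ c x => map_smul (act σ) c x⟩
  letI : TopologicalSpace (K ⊗[k] L) := ⊥
  haveI : DiscreteTopology (K ⊗[k] L) := ⟨rfl⟩
  haveI : ContinuousSMul (L ≃ₐ[k] L) (K ⊗[k] L) := by
    rw [continuousSMul_iff_stabilizer_isOpen]
    intro x
    induction x with
    | zero =>
      convert! isOpen_univ
      ext σ
      simp only [SetLike.mem_coe, MulAction.mem_stabilizer_iff, Set.mem_univ, iff_true]
      exact smul_zero σ
    | tmul a b =>
      refine Subgroup.isOpen_mono (H₁ := MulAction.stabilizer (L ≃ₐ[k] L) b) ?_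
        (stabilizer_isOpen_of_isIntegral b)
      intro σ hσ
      rw [MulAction.mem_stabilizer_iff] at hσ ⊢
      rw [smul_def, act_tmul]
      rw [AlgEquiv.smul_def] at hσ
      rw [hσ]
    | add x y hx hy =>
      refine Subgroup.isOpen_mono (H₁ := MulAction.stabilizer (L ≃ₐ[k] L) x ⊓
        MulAction.stabilizer (L ≃ₐ[k] L) y) ?_ (hx.inter hy)
      intro σ hσ
      rw [Subgroup.mem_inf, MulAction.mem_stabilizer_iff, MulAction.mem_stabilizer_iff] at hσ
      rw [MulAction.mem_stabilizer_iff, smul_add, hσ.1, hσ.2]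
  haveI : Algebra.IsInvariant K (K ⊗[k] L) (L ≃ₐ[k] L) := by
    constructor
    intro x hx
    classical
    let bK := Module.Basis.ofVectorSpace k K
    let e := TensorProduct.equivFinsuppOfBasisLeft (N := L) bK
    have key : ∀ (σ : L ≃ₐ[k] L) (z : K ⊗[k] L) i, e (σ • z) i = σ (e z i) := by
      intro σ z
      induction z with
      | zero => intro i; rw [smul_zero]; simp
      | tmul a b =>
        intro i
        rw [smul_def, act_tmul]
        simp only [e, TensorProduct.equivFinsuppOfBasisLeft_apply_tmul_apply]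
        exact (map_smul σ (bK.repr a i) b).symm
      | add z w hz hw =>
        intro i
        rw [smul_add, map_add, map_add, Finsupp.add_apply, Finsupp.add_apply, hz, hw, map_add]
    have hfix : ∀ i, e x i ∈ Set.range (algebraMap k L) := by
      intro i
      rw [InfiniteGalois.mem_range_algebraMap_iff_fixed]
      intro σ
      rw [← key σ x i, hx σ]
    choose c hc using hfix
    have hx' : x = (e x).sum fun i n => bK i ⊗ₜ[k] n := by
      conv_lhs => rw [← e.symm_apply_apply x]
      exact TensorProduct.equivFinsuppOfBasisLeft_symm_apply bK (e x)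
    refine ⟨(e x).sum fun i _ => c i • bK i, ?_⟩
    conv_rhs => rw [hx']
    rw [Finsupp.sum, map_sum, Finsupp.sum]
    refine Finset.sum_congr rfl fun i _ => ?_
    rw [← hc i, Algebra.algebraMap_eq_smul_one (c i), TensorProduct.tmul_smul,
      TensorProduct.smul_tmul', Algebra.TensorProduct.algebraMap_apply]
    rfl
  haveI : Algebra.IsIntegral k L := Algebra.IsAlgebraic.isIntegral
  let e := Algebra.TensorProduct.comm k L K
  obtain ⟨g, hg⟩ := Algebra.IsInvariant.exists_smul_of_under_eq_of_profinite (A := K)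
    (G := L ≃ₐ[k] L) (P.comap e.symm.toRingHom) (Q.comap e.symm.toRingHom)
    (by rw [Ideal.eq_bot_of_prime ((Q.comap e.symm.toRingHom).under K),
          Ideal.eq_bot_of_prime ((P.comap e.symm.toRingHom).under K)])
  refine ⟨g⁻¹, ?_⟩
  have h2 : ∀ x, e.symm (g⁻¹ • e x) =
      Algebra.TensorProduct.map ((g⁻¹ : L ≃ₐ[k] L) : L →ₐ[k] L) (AlgHom.id k K) x := by
    intro x
    induction x using TensorProduct.induction_on with
    | zero => rw [map_zero, smul_zero, map_zero, map_zero]
    | tmul a b => rfl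
    | add x y hx hy => rw [map_add, smul_add, map_add, map_add, hx, hy]
  ext x
  have h1 : x ∈ Q ↔ e x ∈ Q.comap e.symm.toRingHom := by
    rw [Ideal.mem_comap]
    change x ∈ Q ↔ e.symm (e x) ∈ Q
    rw [e.symm_apply_apply]
  rw [h1, hg, Ideal.mem_pointwise_smul_iff_inv_smul_mem, Ideal.mem_comap, Ideal.mem_comap]
  change e.symm (g⁻¹ • e x) ∈ P ↔ _
  rw [h2]

end Groth.Agent.GalTrans
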